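import Groth.Prelude.Def_W4c5quivmodgenus0Quiv
import Mathlib.LinearAlgebra.FiniteDimensional.Basic
import Mathlib.LinearAlgebra.Matrix.ToLinearEquiv
import Mathlib.Tactic
import Mathlib.LinearAlgebra.Dimension.OrzechProperty

/-!
# Stability near a vertex wall for the two quivers
-/

set_option autoImplicit false
universe u v
open PtQuiv Module

namespace PtQuivWallLib

variable {K : Type u} [Field K] {κ : Type v} [Fintype κ] [DecidableEq κ] {a b : κ}

theorem sum_split (hab : a ≠ b) (θ : κ → ℚ) (J : Finset κ) :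
    ∑ i ∈ J, θ i = (if a ∈ J then θ a else 0) + (if b ∈ J then θ b else 0) +
      ∑ i ∈ J.subtype (fun i => i ≠ a ∧ i ≠ b), θ i.1 := by
  classical
  rw [Finset.sum_subtype_eq_sum_filter, ← Finset.sum_filter_add_sum_filter_not J (fun i => i ≠ a ∧ i ≠ b), add_comm]
  congr 1
  have h1 : J.filter (fun i => ¬(i ≠ a ∧ i ≠ b)) = (J.filter (fun i => i = a)) ∪ (J.filter (fun i => i = b)) := by
    ext i; simp [← Finset.filter_or]; tauto
  rw [h1, Finset.sum_union, Finset.filter_eq', Finset.filter_eq']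
  · split <;> split <;> simp
  · exact Finset.disjoint_filter.2 fun i _ h h' => hab (h ▸ h')

theorem bot_ne : (⊥ : Submodule K K) ≠ ⊤ := fun h => one_ne_zero ((Submodule.mem_bot K).1 (h ▸ Submodule.mem_top (x := (1 : K))))

theorem finrank_sub (U : Submodule K K) [Decidable (U = ⊤)] :
    (finrank K U : ℚ) = if U = ⊤ then 1 else 0 := by
  rcases eq_bot_or_eq_top U with rfl | rfl
  · rw [if_neg bot_ne, finrank_bot]; simp
  · rw [if_pos rfl, finrank_top, finrank_self]; simp

variable (s : κ → (Fin 2 → K)) (θ : κ → ℚ)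

/-- The weight of `P`. -/
def pη (a b : κ) : Fin 2 → ℚ := ![(2 - θ a - θ b)⁻¹ * (θ a - 1), (2 - θ a - θ b)⁻¹ * (θ b - 1)]

/-- The weights at the remaining vertices. -/
def pθ (a b : κ) (i : {i : κ // i ≠ a ∧ i ≠ b}) : ℚ := (2 - θ a - θ b)⁻¹ * θ i.1

theorem linearIndependent_of_qSemistable (hab : a ≠ b) (hθ : 1 < θ a + θ b) (h : QSemistable (-1) θ s) :
    LinearIndependent K ![s a, s b] := by
  classical
  by_contra hli
  let L := Submodule.span K (Set.range ![s a, s b])
  have hdim : finrank K L ≤ 1 := by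
    have h1 : finrank K L ≤ 2 := (finrank_range_le_card (R := K) ![s a, s b]).trans (by simp)
    by_contra h2
    exact hli (linearIndependent_iff_card_eq_finrank_span.2 (by
      rw [Fintype.card_fin]
      show 2 = finrank K L
      omega))
  have h2 := h.2 L {a, b} (by
    intro i hi
    rw [Finset.mem_insert, Finset.mem_singleton] at hi
    rcases hi with rfl | rfl
    · exact Submodule.subset_span ⟨0, rfl⟩
    · exact Submodule.subset_span ⟨1, rfl⟩)
  rw [QWt, Finset.sum_pair hab] at h2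
  have h3 : (finrank K L : ℚ) ≤ 1 := by exact_mod_cast hdim
  linarith

theorem q_to_p (hab : a ≠ b) (hθ' : θ a + θ b < 2) (hli : LinearIndependent K ![s a, s b])
    (t : {i : κ // i ≠ a ∧ i ≠ b} → (Fin 2 → K)) (ht : ∀ i, s i.1 = t i 0 • s a + t i 1 • s b)
    (U : Fin 2 → Submodule K K) (I : Finset {i : κ // i ≠ a ∧ i ≠ b}) (hUI : PSubrep t U I) :
    ∃ (L : Submodule K (Fin 2 → K)) (J : Finset κ), QSubrep s L J ∧
      QWt K (-1) θ L J = (2 - θ a - θ b) * PWt K (pη θ a b) (pθ θ a b) U I ∧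
      ((L = ⊥ ∧ J = ∅) → U = ⊥ ∧ I = ∅) ∧ ((L = ⊤ ∧ J = Finset.univ) → U = ⊤ ∧ I = Finset.univ) := by
  classical
  let L : Submodule K (Fin 2 → K) := Submodule.span K (![s a, s b] '' {j | U j = ⊤})
  let J : Finset κ := Finset.univ.filter fun i =>
    (i = a ∧ U 0 = ⊤) ∨ (i = b ∧ U 1 = ⊤) ∨ ∃ h : i ≠ a ∧ i ≠ b, (⟨i, h⟩ : {i : κ // i ≠ a ∧ i ≠ b}) ∈ I
  have haJ : a ∈ J ↔ U 0 = ⊤ := by simp [J, hab]
  have hbJ : b ∈ J ↔ U 1 = ⊤ := by simp [J, hab.symm]
  have hsub : J.subtype (fun i => i ≠ a ∧ i ≠ b) = I := by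
    ext ⟨i, hi⟩
    simp [J, hi.1, hi.2]
  have hsmul : ∀ (j : Fin 2) (c : K), c ∈ U j → c • ![s a, s b] j ∈ L := by
    intro j c hc
    rcases eq_bot_or_eq_top (U j) with h | h
    · rw [h, Submodule.mem_bot] at hc; rw [hc, zero_smul]; exact L.zero_mem
    · exact L.smul_mem c (Submodule.subset_span ⟨j, h, rfl⟩)
  refine ⟨L, J, ?_, ?_, ?_, ?_⟩
  · intro i hi
    rw [Finset.mem_filter] at hi
    rcases hi.2 with ⟨rfl, h⟩ | ⟨rfl, h⟩ | ⟨h, hI⟩
    · exact Submodule.subset_span ⟨0, h, rfl⟩
    · exact Submodule.subset_span ⟨1, h, rfl⟩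
    · rw [ht ⟨i, h⟩]
      exact L.add_mem (hsmul 0 _ (hUI _ hI 0)) (hsmul 1 _ (hUI _ hI 1))
  · have hfin : (finrank K L : ℚ) = (if U 0 = ⊤ then 1 else 0) + (if U 1 = ⊤ then 1 else 0) := by
      have h1 : finrank K L = (Finset.univ.filter fun j => U j = ⊤).card := by
        have h2 := finrank_span_eq_card (hli.comp (fun j : {j // U j = ⊤} => (j : Fin 2)) Subtype.val_injective)
        rw [Fintype.card_subtype] at h2
        rw [Set.range_comp, Subtype.range_coe_subtype] at h2
        exact h2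
      rw [h1, Finset.card_filter, Fin.sum_univ_two]
      push_cast
      rfl
    rw [QWt, PWt, sum_split hab θ J, hsub, hfin, Fin.sum_univ_two, finrank_sub, finrank_sub]
    simp only [pη, pθ, Matrix.cons_val_zero, Matrix.cons_val_one, haJ, hbJ, ← Finset.mul_sum]
    have hC : (2 - θ a - θ b) ≠ 0 := by linarith
    field_simp
    split <;> split <;> ring
  · rintro ⟨hL, hJ⟩
    refine ⟨funext fun j => ?_, by rw [← hsub, hJ]; rfl⟩
    rcases eq_bot_or_eq_top (U j) with h | h
    · exact h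
    · exact absurd ((Submodule.mem_bot K).1 (hL ▸ Submodule.subset_span ⟨j, h, rfl⟩)) (hli.ne_zero j)
  · rintro ⟨-, hJ⟩
    refine ⟨funext fun j => ?_, by rw [← hsub, hJ]; ext; simp⟩
    fin_cases j
    · exact haJ.1 (hJ ▸ Finset.mem_univ a)
    · exact hbJ.1 (hJ ▸ Finset.mem_univ b)

theorem p_to_q (hab : a ≠ b) (h0 : ∀ i, 0 ≤ θ i) (h1 : ∀ i, θ i ≤ 1) (h2 : ∑ i, θ i = 2)
    (hθ : 1 < θ a + θ b) (hθ' : θ a + θ b < 2) (hli : LinearIndependent K ![s a, s b])
    (t : {i : κ // i ≠ a ∧ i ≠ b} → (Fin 2 → K)) (ht : ∀ i, s i.1 = t i 0 • s a + t i 1 • s b)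
    (L : Submodule K (Fin 2 → K)) (J : Finset κ) (hLJ : QSubrep s L J) :
    QWt K (-1) θ L J < 0 ∨
    ∃ (U : Fin 2 → Submodule K K) (I : Finset {i : κ // i ≠ a ∧ i ≠ b}), PSubrep t U I ∧
      QWt K (-1) θ L J ≤ (2 - θ a - θ b) * PWt K (pη θ a b) (pθ θ a b) U I ∧
      (QWt K (-1) θ L J = (2 - θ a - θ b) * PWt K (pη θ a b) (pθ θ a b) U I →
        ((U = ⊥ ∧ I = ∅) → L = ⊥ ∧ J = ∅) ∧ ((U = ⊤ ∧ I = Finset.univ) → L = ⊤ ∧ J = Finset.univ)) := by
  classical
  have hθa : 0 < θ a := by linarith [h1 b]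
  have hθb : 0 < θ b := by linarith [h1 a]
  have hne : ∀ j, ![s a, s b] j ≠ 0 := hli.ne_zero
  let e := basisOfLinearIndependentOfCardEqFinrank hli (by simp)
  have hle : finrank K L ≤ 2 := (Submodule.finrank_le L).trans (by simp)
  by_cases hodd : finrank K L = 1 ∧ s a ∉ L ∧ s b ∉ L
  · left
    have ha : a ∉ J := fun h => hodd.2.1 (hLJ a h)
    have hb : b ∉ J := fun h => hodd.2.2 (hLJ b h)
    rw [QWt, hodd.1, sum_split hab θ J, if_neg ha, if_neg hb]
    have h3 := sum_split hab θ Finset.univ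
    rw [h2, if_pos (Finset.mem_univ a), if_pos (Finset.mem_univ b)] at h3
    have h4 : ∑ i ∈ J.subtype (fun i => i ≠ a ∧ i ≠ b), θ i.1 ≤
        ∑ i ∈ (Finset.univ : Finset κ).subtype (fun i => i ≠ a ∧ i ≠ b), θ i.1 :=
      Finset.sum_le_sum_of_subset_of_nonneg (fun i _ => by simp) fun i _ _ => h0 _
    push_cast
    linarith
  right
  let U : Fin 2 → Submodule K K := fun j => if ![s a, s b] j ∈ L then ⊤ else ⊥
  have hU : ∀ j, U j = ⊤ ↔ ![s a, s b] j ∈ L := fun j => by
    by_cases h : ![s a, s b] j ∈ L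
    · simp only [U, if_pos h, h]
    · simp only [U, if_neg h]
      exact iff_of_false bot_ne h
  have hcount : (finrank K L : ℚ) = (if U 0 = ⊤ then 1 else 0) + (if U 1 = ⊤ then 1 else 0) := by
    simp only [hU, Matrix.cons_val_zero, Matrix.cons_val_one]
    by_cases ha : s a ∈ L <;> by_cases hb : s b ∈ L
    · have hL : L = ⊤ := by
        rw [eq_top_iff, ← e.span_eq, Submodule.span_le]
        rintro _ ⟨j, rfl⟩
        fin_cases j <;> simp [e, ha, hb]
      rw [if_pos ha, if_pos hb, hL, finrank_top, finrank_fin_fun]; norm_num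
    all_goals
      have hlt : finrank K L < 2 := by
        refine lt_of_le_of_ne hle fun h => ?_
        have : L = ⊤ := Submodule.eq_top_of_finrank_eq (by rw [h]; simp)
        simp_all
      simp only [if_pos, if_neg, ha, hb, not_false_iff, zero_add, add_zero]
    · have : finrank K L ≠ 0 := fun h => hne 0 (by simpa [Submodule.finrank_eq_zero.1 h] using ha)
      rw [show finrank K L = 1 by omega]; norm_num
    · have : finrank K L ≠ 0 := fun h => hne 1 (by simpa [Submodule.finrank_eq_zero.1 h] using hb)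
      rw [show finrank K L = 1 by omega]; norm_num
    · rw [show finrank K L = 0 by
        by_contra h
        exact hodd ⟨by omega, ha, hb⟩]
      norm_num
  have hcoord : ∀ i, e.equivFun (s i.1) = t i := fun i => by
    rw [← e.equivFun.apply_symm_apply (t i)]
    congr 1
    rw [e.equivFun_symm_apply, Fin.sum_univ_two, ht i]
    simp [e]
  refine ⟨U, J.subtype (fun i => i ≠ a ∧ i ≠ b), fun i hi j => ?_, ?_, ?_⟩
  · by_cases hUj : U j = ⊤
    · rw [hUj]; exact Submodule.mem_top
    · have hsi : s i.1 ∈ L := hLJ _ (Finset.mem_subtype.1 hi)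
      have hj : t i j = 0 := by
        by_contra htj
        apply hUj
        rw [hU]
        rw [ht i] at hsi
        fin_cases j
        · by_cases hb : s b ∈ L
          · have := L.sub_mem hsi (L.smul_mem (t i 1) hb)
            rw [add_sub_cancel_right] at this
            exact (L.smul_mem_iff htj).1 this
          · by_cases ha : s a ∈ L
            · exact ha
            · exfalso
              have hz : finrank K L = 0 := by
                have h := hcount
                simp only [hU, Matrix.cons_val_zero, Matrix.cons_val_one, if_neg ha, if_neg hb, add_zero] at h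
                exact_mod_cast h
              rw [Submodule.finrank_eq_zero.1 hz, Submodule.mem_bot] at hsi
              exact htj ((LinearIndependent.pair_iff.1 hli _ _ hsi).1)
        · by_cases ha : s a ∈ L
          · have := L.sub_mem hsi (L.smul_mem (t i 0) ha)
            rw [add_sub_cancel_left] at this
            exact (L.smul_mem_iff htj).1 this
          · by_cases hb : s b ∈ L
            · exact hb
            · exfalso
              have hz : finrank K L = 0 := by
                have h := hcount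
                simp only [hU, Matrix.cons_val_zero, Matrix.cons_val_one, if_neg ha, if_neg hb, add_zero] at h
                exact_mod_cast h
              rw [Submodule.finrank_eq_zero.1 hz, Submodule.mem_bot] at hsi
              exact htj ((LinearIndependent.pair_iff.1 hli _ _ hsi).2)
      rw [hj]; exact Submodule.zero_mem _
  all_goals
    have haU : a ∈ J → U 0 = ⊤ := fun h => (hU 0).2 (hLJ a h)
    have hbU : b ∈ J → U 1 = ⊤ := fun h => (hU 1).2 (hLJ b h)
    have heq : (2 - θ a - θ b) * PWt K (pη θ a b) (pθ θ a b) U (J.subtype fun i => i ≠ a ∧ i ≠ b) =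
        (-1) * (finrank K L : ℚ) + ((if U 0 = ⊤ then θ a else 0) + (if U 1 = ⊤ then θ b else 0) +
          ∑ i ∈ J.subtype (fun i => i ≠ a ∧ i ≠ b), θ i.1) := by
      rw [PWt, hcount, Fin.sum_univ_two, finrank_sub, finrank_sub]
      simp only [pη, pθ, Matrix.cons_val_zero, Matrix.cons_val_one, ← Finset.mul_sum]
      have hC : (2 - θ a - θ b) ≠ 0 := by linarith
      field_simp
      split <;> split <;> ring
    rw [QWt, sum_split hab θ J, heq]
  · have hA : (if a ∈ J then θ a else 0) ≤ (if U 0 = ⊤ then θ a else 0) := by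
      by_cases h : a ∈ J
      · rw [if_pos h, if_pos (haU h)]
      · rw [if_neg h]; split <;> linarith
    have hB : (if b ∈ J then θ b else 0) ≤ (if U 1 = ⊤ then θ b else 0) := by
      by_cases h : b ∈ J
      · rw [if_pos h, if_pos (hbU h)]
      · rw [if_neg h]; split <;> linarith
    linarith
  · intro he
    constructor
    · rintro ⟨hU0, hI⟩
      have ha : a ∉ J := fun h => bot_ne ((congrFun hU0 0).symm.trans (haU h))
      have hb : b ∉ J := fun h => bot_ne ((congrFun hU0 1).symm.trans (hbU h))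
      refine ⟨?_, Finset.eq_empty_of_forall_notMem fun i hi => ?_⟩
      · refine Submodule.finrank_eq_zero.1 ?_
        have h := hcount
        rw [(show U 0 = ⊥ from congrFun hU0 0), (show U 1 = ⊥ from congrFun hU0 1), if_neg bot_ne] at h
        simpa using h
      · by_cases hia : i = a
        · exact ha (hia ▸ hi)
        by_cases hib : i = b
        · exact hb (hib ▸ hi)
        have : (⟨i, hia, hib⟩ : {i : κ // i ≠ a ∧ i ≠ b}) ∈ J.subtype _ := Finset.mem_subtype.2 hi
        rw [hI] at this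
        simp at this
    · rintro ⟨hU1, hI⟩
      rw [if_pos (show U 0 = ⊤ from congrFun hU1 0), if_pos (show U 1 = ⊤ from congrFun hU1 1)] at he
      have ha : a ∈ J := by
        by_contra h
        rw [if_neg h] at he
        split at he <;> linarith
      have hb : b ∈ J := by
        by_contra h
        rw [if_neg h, if_pos ha] at he
        linarith
      refine ⟨Submodule.eq_top_of_finrank_eq ?_, Finset.eq_univ_of_forall fun i => ?_⟩
      · have h := hcount
        rw [if_pos (show U 0 = ⊤ from congrFun hU1 0), if_pos (show U 1 = ⊤ from congrFun hU1 1)] at h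
        rw [finrank_fin_fun]
        norm_num at h
        exact_mod_cast h
      · by_cases hia : i = a
        · exact hia ▸ ha
        by_cases hib : i = b
        · exact hib ▸ hb
        have : (⟨i, hia, hib⟩ : {i : κ // i ≠ a ∧ i ≠ b}) ∈ J.subtype (fun i => i ≠ a ∧ i ≠ b) := hI ▸ Finset.mem_univ _
        exact Finset.mem_subtype.1 this

theorem sum_pθ (hab : a ≠ b) (h2 : ∑ i, θ i = 2) (hθ' : θ a + θ b < 2) :
    (∑ j, pη θ a b j) + ∑ i, pθ θ a b i = 0 := by
  have h3 := sum_split hab θ Finset.univ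
  rw [h2, if_pos (Finset.mem_univ a), if_pos (Finset.mem_univ b)] at h3
  have h4 : (Finset.univ : Finset κ).subtype (fun i => i ≠ a ∧ i ≠ b) = Finset.univ := by ext; simp
  rw [h4] at h3
  simp only [Fin.sum_univ_two, pη, pθ, Matrix.cons_val_zero, Matrix.cons_val_one, ← Finset.mul_sum]
  rw [← mul_add, ← mul_add, show θ a - 1 + (θ b - 1) + ∑ i : {i : κ // i ≠ a ∧ i ≠ b}, θ i.1 = 0 by linarith, mul_zero]

omit [Fintype κ] [DecidableEq κ] in
theorem exists_coord (hli : LinearIndependent K ![s a, s b]) :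
    ∃ t : {i : κ // i ≠ a ∧ i ≠ b} → (Fin 2 → K), ∀ i, s i.1 = t i 0 • s a + t i 1 • s b := by
  let e := basisOfLinearIndependentOfCardEqFinrank hli (by simp)
  refine ⟨fun i => e.equivFun (s i.1), fun i => ?_⟩
  have h := e.sum_equivFun (s i.1)
  rw [Fin.sum_univ_two] at h
  simpa [e] using h.symm

theorem semistable_iff (hab : a ≠ b) (h0 : ∀ i, 0 ≤ θ i) (h1 : ∀ i, θ i ≤ 1) (h2 : ∑ i, θ i = 2)
    (hθ : 1 < θ a + θ b) (hθ' : θ a + θ b < 2) :
    QSemistable (-1) θ s ↔ (LinearIndependent K ![s a, s b] ∧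
      ∀ t : {i : κ // i ≠ a ∧ i ≠ b} → (Fin 2 → K), (∀ i, s i.1 = t i 0 • s a + t i 1 • s b) →
        PSemistable (pη θ a b) (pθ θ a b) t) := by
  have hC : 0 < 2 - θ a - θ b := by linarith
  constructor
  · intro h
    have hli := linearIndependent_of_qSemistable s θ hab hθ h
    refine ⟨hli, fun t ht => ⟨sum_pθ θ hab h2 hθ', fun U I hUI => ?_⟩⟩
    obtain ⟨L, J, hLJ, hw, -, -⟩ := q_to_p s θ hab hθ' hli t ht U I hUI
    have h3 := h.2 L J hLJ
    rw [hw] at h3
    exact nonpos_of_mul_nonpos_right h3 hC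
  · rintro ⟨hli, h⟩
    refine ⟨by rw [h2]; norm_num, fun L J hLJ => ?_⟩
    obtain ⟨t, ht⟩ := exists_coord (a := a) (b := b) s hli
    rcases p_to_q s θ hab h0 h1 h2 hθ hθ' hli t ht L J hLJ with h3 | ⟨U, I, hUI, hw, -⟩
    · exact h3.le
    · exact hw.trans (mul_nonpos_of_nonneg_of_nonpos hC.le ((h t ht).2 U I hUI))

theorem stable_iff (hab : a ≠ b) (h0 : ∀ i, 0 ≤ θ i) (h1 : ∀ i, θ i ≤ 1) (h2 : ∑ i, θ i = 2)
    (hθ : 1 < θ a + θ b) (hθ' : θ a + θ b < 2) :
    QStable (-1) θ s ↔ (LinearIndependent K ![s a, s b] ∧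
      ∀ t : {i : κ // i ≠ a ∧ i ≠ b} → (Fin 2 → K), (∀ i, s i.1 = t i 0 • s a + t i 1 • s b) →
        PStable (pη θ a b) (pθ θ a b) t) := by
  have hC : 0 < 2 - θ a - θ b := by linarith
  constructor
  · intro h
    have hss := (semistable_iff s θ hab h0 h1 h2 hθ hθ').1 h.1
    refine ⟨hss.1, fun t ht => ⟨hss.2 t ht, fun U I hUI hz => ?_⟩⟩
    obtain ⟨L, J, hLJ, hw, hbot, htop⟩ := q_to_p s θ hab hθ' hss.1 t ht U I hUI
    rcases h.2 L J hLJ (by rw [hw, hz, mul_zero]) with h3 | h3
    · exact Or.inl (hbot h3)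
    · exact Or.inr (htop h3)
  · rintro ⟨hli, h⟩
    refine ⟨(semistable_iff s θ hab h0 h1 h2 hθ hθ').2 ⟨hli, fun t ht => (h t ht).1⟩, fun L J hLJ hz => ?_⟩
    obtain ⟨t, ht⟩ := exists_coord (a := a) (b := b) s hli
    rcases p_to_q s θ hab h0 h1 h2 hθ hθ' hli t ht L J hLJ with h3 | ⟨U, I, hUI, hw, heq⟩
    · exact absurd hz h3.ne
    · have hle := (h t ht).1.2 U I hUI
      have hP : PWt K (pη θ a b) (pθ θ a b) U I = 0 := by
        refine le_antisymm hle ?_
        rw [hz] at hw
        exact nonneg_of_mul_nonneg_right hw hC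
      have h5 := heq (by rw [hz, hP, mul_zero])
      rcases (h t ht).2 U I hUI hP with h4 | h4
      · exact Or.inl (h5.1 h4)
      · exact Or.inr (h5.2 h4)

end PtQuivWallLib
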